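import Groth.Agent.H23.RatEquivPull
import Groth.Agent.CycLib.DivMap
import Groth.Agent.CycLib.Pull

/-!
# Fibrewise killing of cycles below the relative dimension
-/

set_option autoImplicit false
set_option linter.style.haveILetI false
set_option backward.isDefEq.respectTransparency false
set_option backward.isDefEq.respectTransparency.types false

universe u

open AlgebraicGeometry CategoryTheory TopologicalSpace

namespace Groth.Agent.AffBundleCyc

open H23.FiniteFibreSum H23.FlatShift H23.DivPull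

variable {X W Y : Scheme.{u}}

/-- In every fibre there is one point of maximal `δ`, of multiplicity one, and the other points are
divisors of rational functions inside the fibre. -/
structure Good (f : X ⟶ Y) (δX : X → ℤ) (δY : Y → ℤ) (r : ℤ) : Prop where
  le : ∀ x, δX x ≤ δY (f x) + r
  len : ∀ x, δX x = δY (f x) + r → fibreLen f x = 1
  uniq : ∀ x x', f x = f x' → δX x = δY (f x) + r → δX x' = δY (f x') + r → x = x'
  kill : ∀ x₀, δX x₀ < δY (f x₀) + r → ∃ (ι : Type u) (_ : Fintype ι) (ξ : ι → X)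
    (g : ∀ i, X.residueField (ξ i)), (∀ i, f (ξ i) = f x₀ ∧ δX (ξ i) = δX x₀ + 1 ∧ g i ≠ 0) ∧
      ∀ x, f x = f x₀ → (x = x₀ → ∑ i, Cyc.divFun δX (ξ i) (g i) x = 1) ∧
        (x ≠ x₀ → ∑ i, Cyc.divFun δX (ξ i) (g i) x = 0)

theorem Good.of_isIso (f : X ⟶ Y) [IsIso f] (δX : X → ℤ) (δY : Y → ℤ) (hδ : ∀ x, δX x = δY (f x)) :
    Good f δX δY 0 where
  le x := by simp [hδ]
  len x _ := by
    haveI : IsIso (f.stalkMap x) := inferInstance
    let e : Y.presheaf.stalk (f x) ≃+* X.presheaf.stalk x := (asIso (f.stalkMap x)).commRingCatIsoToRingEquiv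
    have h1 : (IsLocalRing.maximalIdeal (Y.presheaf.stalk (f x))).map (f.stalkMap x).hom =
        IsLocalRing.maximalIdeal (X.presheaf.stalk x) :=
      IsLocalRing.map_ringEquiv_maximalIdeal e
    rw [fibreLen, h1]
    exact Module.length_eq_one_iff.2 (isSimpleModule_iff_isCoatom.2
      (IsLocalRing.maximalIdeal.isMaximal _).out)
  uniq x x' h _ _ := f.homeomorph.injective h
  kill x h := by simp [hδ] at h

theorem Good.hasShift {f : X ⟶ Y} {δX : X → ℤ} {δY : Y → ℤ} {r : ℤ} (hf : Good f δX δY r) :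
    HasShift f δX δY r := fun x hx => by
  refine le_antisymm (hf.le x) (not_lt.1 fun h => ?_)
  obtain ⟨ι, _, ξ, g, hξ, hs⟩ := hf.kill x h
  obtain ⟨i, -, hi⟩ := Finset.exists_ne_zero_of_sum_ne_zero (s := Finset.univ)
    (f := fun i => Cyc.divFun δX (ξ i) (g i) x) (by rw [(hs x rfl).1 rfl]; norm_num)
  have h1 := hx (ξ i) (hξ i).1 (specializes_iff_mem_closure.2 (CycLib.mem_closure_of_divFun_ne_zero hi))
  have h2 := (hξ i).2.1
  rw [h1] at h2
  omega

theorem divFun_zpow [IsLocallyNoetherian X] {δ : X → ℤ} (hd : Cyc.IsDimFun X δ) {ξ : X}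
    {g : X.residueField ξ} (hg : g ≠ 0) (n : ℤ) (x : X) :
    Cyc.divFun δ ξ (g ^ n) x = n * Cyc.divFun δ ξ g x := by
  obtain ⟨n, rfl | rfl⟩ := n.eq_nat_or_neg
  · rw [zpow_natCast, divFun_pow hd hg]
  · rw [zpow_neg, zpow_natCast, CycLib.divFun_inv hd (pow_ne_zero n hg), Pi.neg_apply, divFun_pow hd hg]
    ring

/-- points of the fibre of a quasi-compact morphism at which a principal divisor is non zero -/
theorem finite_divFun_fibre [IsLocallyNoetherian X] (f : X ⟶ Y) [QuasiCompact f] {δ : X → ℤ}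
    (hd : Cyc.IsDimFun X δ) {ξ : X} {g : X.residueField ξ} (hg : g ≠ 0) (z : Y) :
    ({x | f x = z} ∩ Function.support (Cyc.divFun δ ξ g)).Finite := by
  obtain ⟨V, hV, hzV, -⟩ := exists_isAffineOpen_mem_and_subset (x := z) (U := ⊤) trivial
  have hc : IsCompact ((f ⁻¹ᵁ V : X.Opens) : Set X) := f.isCompact_preimage hV.isCompact
  obtain ⟨S, hS, hfin, e⟩ := X.isBasis_affineOpens.exists_finite_of_isCompact hc
  refine (hfin.biUnion fun U hU => CycLib.finite_divFun_support hd (hS hU) hg).subset ?_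
  rintro x ⟨hx, hne⟩
  obtain ⟨U, hU, hxU⟩ : ∃ U ∈ S, x ∈ U := by
    have hx' : x ∈ f ⁻¹ᵁ V := show f x ∈ V from hx.symm ▸ hzV
    rw [e] at hx'
    exact Opens.mem_sSup.1 hx'
  exact Set.mem_biUnion hU ⟨hxU, hne⟩

/-- pulling a family of rational functions back along a good morphism -/
theorem exists_pull [IsLocallyNoetherian X] [IsLocallyNoetherian W] {g : X ⟶ W} [Flat g] {δX : X → ℤ} {δW : W → ℤ}
    (hdX : Cyc.IsDimFun X δX) (hdW : Cyc.IsDimFun W δW) {c : ℤ} (hg : Good g δX δW c) {ι : Type u} [Fintype ι]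
    (ξ : ι → W) (φ : ∀ i, W.residueField (ξ i)) (hφ : ∀ i, φ i ≠ 0) :
    ∃ (ι' : Type u) (_ : Fintype ι') (ξ' : ι' → X) (φ' : ∀ j, X.residueField (ξ' j)),
      (∀ j, ∃ i, g (ξ' j) = ξ i ∧ δX (ξ' j) = δW (ξ i) + c ∧ φ' j ≠ 0) ∧
      ∀ x, (δX x = δW (g x) + c → ∑ j, Cyc.divFun δX (ξ' j) (φ' j) x = ∑ i, Cyc.divFun δW (ξ i) (φ i) (g x)) ∧
        (δX x ≠ δW (g x) + c → ∑ j, Cyc.divFun δX (ξ' j) (φ' j) x = 0) := by
  classical
  have hsub : ∀ i, Subsingleton {z : X // g z = ξ i ∧ FibDim.FibMax g z} := fun i =>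
    ⟨fun a b => Subtype.ext (hg.uniq a.1 b.1 (a.2.1.trans b.2.1.symm) (hg.hasShift.eq_of_fibMax a.2.2)
      (hg.hasShift.eq_of_fibMax b.2.2))⟩
  haveI : ∀ i, Finite {z : X // g z = ξ i ∧ FibDim.FibMax g z} := fun i => inferInstance
  letI : ∀ i, Fintype {z : X // g z = ξ i ∧ FibDim.FibMax g z} := fun i => Fintype.ofFinite _
  refine ⟨Σ i, {z : X // g z = ξ i ∧ FibDim.FibMax g z}, inferInstance, fun j => j.2.1,
    fun j => pullRes g j.2.2.1 (φ j.1), fun j => ⟨j.1, j.2.2.1, ?_, pullRes_ne_zero g j.2.2.1 (hφ j.1)⟩,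
    fun x => ?_⟩
  · rw [hg.hasShift.eq_of_fibMax j.2.2.2, j.2.2.1]
  have key : ∀ i, ∑ z : {z : X // g z = ξ i ∧ FibDim.FibMax g z}, Cyc.divFun δX z.1 (pullRes g z.2.1 (φ i)) x =
      Cyc.pullFun g δX δW c (Cyc.divFun δW (ξ i) (φ i)) x := fun i => by
    letI : Fintype ↑{z : X | g z = ξ i ∧ FibDim.FibMax g z} :=
      inferInstanceAs (Fintype {z : X // g z = ξ i ∧ FibDim.FibMax g z})
    rw [pullFun_divFun g hg.hasShift hdW hdX (hφ i) x, ← finsum_set_coe_eq_finsum_mem, finsum_eq_sum_of_fintype]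
    refine Fintype.sum_equiv (Equiv.refl _) _ _ fun z => ?_
    show _ = term g δX (φ i) x z.1
    rw [term, dif_pos z.2.1, hg.len z.1 (hg.hasShift.eq_of_fibMax z.2.2)]
    exact (one_mul _).symm
  rw [Fintype.sum_sigma]
  simp only [key]
  refine ⟨fun hx => Finset.sum_congr rfl fun i _ => ?_, fun hx => Finset.sum_eq_zero fun i _ => ?_⟩
  · rw [Cyc.pullFun, if_pos hx]
    have := hg.len x hx
    rw [fibreLen] at this
    rw [this]
    simp
  · rw [Cyc.pullFun, if_neg hx]

theorem Good.comp [IsLocallyNoetherian X] [IsLocallyNoetherian W] {g : X ⟶ W} [Flat g] [QuasiCompact g]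
    {h : W ⟶ Y} [QuasiCompact h] {δX : X → ℤ} {δW : W → ℤ} {δY : Y → ℤ}
    (hdX : Cyc.IsDimFun X δX) (hdW : Cyc.IsDimFun W δW) {r : ℤ} (hg : Good g δX δW 1) (hh : Good h δW δY r)
    (hge : ∀ x, δW (g x) ≤ δX x) : Good (g ≫ h) δX δY (r + 1) where
  le x := by
    rw [Scheme.Hom.comp_apply]
    linarith [hg.le x, hh.le (g x)]
  len x hx := by
    rw [Scheme.Hom.comp_apply] at hx
    have h1 := hg.le x
    have h2 := hh.le (g x)
    have e1 := hh.len (g x) (by omega)
    have e2 := hg.len x (by omega)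
    rw [fibreLen] at e1 e2 ⊢
    refine (CycLib.length_fibre_comp g h x).trans ?_
    rw [e1, e2, one_mul]
  uniq x x' he hx hx' := by
    rw [Scheme.Hom.comp_apply] at hx hx' he
    have := hg.le x; have := hh.le (g x); have := hg.le x'; have := hh.le (g x')
    have e := hh.uniq (g x) (g x') he (by omega) (by omega)
    exact hg.uniq x x' e (by omega) (by omega)
  kill x₀ hx₀ := by
    classical
    obtain ⟨w, hw⟩ : ∃ w, w = g x₀ := ⟨_, rfl⟩
    rw [Scheme.Hom.comp_apply, ← hw] at hx₀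
    -- pulling back the family killing a point of the intermediate fibre
    have pk : ∀ w', δW w' < δY (h w') + r → h w' = h w → δW w' + 1 = δX x₀ →
        ∃ (ι : Type u) (_ : Fintype ι) (ξ : ι → X) (φ : ∀ i, X.residueField (ξ i)),
          (∀ i, h (g (ξ i)) = h w ∧ δX (ξ i) = δX x₀ + 1 ∧ φ i ≠ 0) ∧
          ∀ x, h (g x) = h w → ∑ i, Cyc.divFun δX (ξ i) (φ i) x = if g x = w' ∧ δX x = δW (g x) + 1 then 1 else 0 := by
      intro w' hlt he hδ
      obtain ⟨κ, _, η, ψ, hη, hs⟩ := hh.kill w' hlt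
      obtain ⟨ι, inst, ξ, φ, hξ, hval⟩ := exists_pull hdX hdW hg η ψ fun i => (hη i).2.2
      refine ⟨ι, inst, ξ, φ, fun j => ?_, fun x hx => ?_⟩
      · obtain ⟨i, e1, e2, e3⟩ := hξ j
        exact ⟨by rw [e1, (hη i).1, he], by rw [e2, (hη i).2.1]; omega, e3⟩
      · split_ifs with hc
        · rw [(hval x).1 hc.2, (hs (g x) (hx.trans he.symm)).1 hc.1]
        · by_cases hgen : δX x = δW (g x) + 1
          · rw [(hval x).1 hgen, (hs (g x) (hx.trans he.symm)).2 fun e => hc ⟨e, hgen⟩]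
          · exact (hval x).2 hgen
    by_cases htop : δX x₀ = δW w + 1
    · have := hh.le w
      obtain ⟨ι, inst, ξ, φ, hξ, hs⟩ := pk w (by omega) rfl htop.symm
      refine ⟨ι, inst, ξ, φ, fun i => ?_, fun x hx => ?_⟩
      · rw [Scheme.Hom.comp_apply, Scheme.Hom.comp_apply, ← hw]
        exact hξ i
      rw [Scheme.Hom.comp_apply, Scheme.Hom.comp_apply, ← hw] at hx
      rw [hs x hx]
      refine ⟨fun e => if_pos (by rw [e, ← hw]; exact ⟨rfl, htop⟩), fun hne => if_neg ?_⟩
      rintro ⟨e1, e2⟩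
      exact hne (hg.uniq x x₀ (e1.trans hw) e2 (hw ▸ htop))
    · have h1 := hg.le x₀
      have h2 := hge x₀
      rw [← hw] at h1 h2
      have hδ₀ : δX x₀ = δW w := by omega
      obtain ⟨ι, _, ξ, φ, hξ, hs⟩ := hg.kill x₀ (by rw [← hw]; omega)
      -- the residue lives over immediate specialisations of `w`
      have hres : ∀ x, h (g x) = h w → g x ≠ w → ∑ i, Cyc.divFun δX (ξ i) (φ i) x ≠ 0 →
          δX x = δX x₀ ∧ δW (g x) + 1 = δW w ∧ δX x = δW (g x) + 1 := by
        intro x _ hne hsum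
        obtain ⟨i, -, hi⟩ := Finset.exists_ne_zero_of_sum_ne_zero hsum
        have hsp : ξ i ⤳ x := specializes_iff_mem_closure.2 (CycLib.mem_closure_of_divFun_ne_zero hi)
        have hd : δX x + 1 = δX (ξ i) := by_contra fun hc => hi (CycLib.divFun_eq_zero_of_delta δX _ hc)
        have hsw : w ⤳ g x := by
          have := hsp.map g.continuous
          rwa [(hξ i).1, ← hw] at this
        have h3 := CycLib.delta_lt hdW hsw (Ne.symm hne)
        have h4 := hg.le x
        have h5 := hge x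
        have h6 := (hξ i).2.1
        refine ⟨by omega, by omega, by omega⟩
      let Bad : Set W := g '' ({x | h (g x) = h w} ∩
        (⋃ i, Function.support (Cyc.divFun δX (ξ i) (φ i))) ∩ {x | g x ≠ w ∧ ∑ i, Cyc.divFun δX (ξ i) (φ i) x ≠ 0})
      have hfin : Bad.Finite := by
        refine ((Set.Finite.subset (Set.finite_iUnion fun i => finite_divFun_fibre (g ≫ h) hdX (hξ i).2.2 (h w)) ?_).subset
          Set.inter_subset_left).image g
        rintro x ⟨hx, hsup⟩
        obtain ⟨i, hi⟩ := Set.mem_iUnion.1 hsup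
        exact Set.mem_iUnion.2 ⟨i, (Scheme.Hom.comp_apply g h x).trans hx, hi⟩
      have hB : ∀ w' : hfin.toFinset, h w'.1 = h w ∧ δW w'.1 + 1 = δW w := by
        rintro ⟨w', hw'⟩
        rw [Set.Finite.mem_toFinset] at hw'
        obtain ⟨x, ⟨⟨hx, -⟩, hne, hsum⟩, rfl⟩ := hw'
        exact ⟨hx, (hres x hx hne hsum).2.1⟩
      choose κ instκ η ψ hη hηs using fun w' : hfin.toFinset =>
        pk w'.1 (by have := hh.le w; have := (hB w').2; rw [(hB w').1]; omega) (hB w').1
          (by have := (hB w').2; omega)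
      -- the coefficient of each correction
      let m : hfin.toFinset → ℤ := fun w' =>
        if hx : ∃ x, g x = w'.1 ∧ δX x = δW w'.1 + 1 then ∑ i, Cyc.divFun δX (ξ i) (φ i) hx.choose else 0
      letI : ∀ w', Fintype (κ w') := instκ
      let Ξ : ι ⊕ (Σ w', κ w') → X := Sum.elim ξ fun j => η j.1 j.2
      let Φ : ∀ t, X.residueField (Ξ t) := fun t => match t with
        | Sum.inl i => φ i
        | Sum.inr j => ψ j.1 j.2 ^ (-m j.1)
      refine ⟨ι ⊕ (Σ w', κ w'), inferInstance, Ξ, Φ, ?_, fun x hx => ?_⟩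
      · rw [Scheme.Hom.comp_apply, ← hw]
        rintro (i | j)
        · exact ⟨by rw [Scheme.Hom.comp_apply]; show h (g (ξ i)) = _; rw [(hξ i).1, ← hw], (hξ i).2.1, (hξ i).2.2⟩
        · exact ⟨(Scheme.Hom.comp_apply g h _).trans (hη j.1 j.2).1, (hη j.1 j.2).2.1, zpow_ne_zero _ (hη j.1 j.2).2.2⟩
      rw [Scheme.Hom.comp_apply, Scheme.Hom.comp_apply, ← hw] at hx
      have hsplit : ∑ t, Cyc.divFun δX (Ξ t) (Φ t) x = ∑ i, Cyc.divFun δX (ξ i) (φ i) x +
          ∑ w', (-m w') * (if g x = w'.1 ∧ δX x = δW (g x) + 1 then 1 else 0) := by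
        rw [Fintype.sum_sum_type]
        congr 1
        rw [Fintype.sum_sigma]
        refine Finset.sum_congr rfl fun w' _ => ?_
        rw [← hηs w' x hx, Finset.mul_sum]
        exact Finset.sum_congr rfl fun j _ => divFun_zpow hdX (hη w' j).2.2 (-m w') x
      rw [hsplit]
      by_cases hxw : g x = w
      · rw [Finset.sum_eq_zero (s := Finset.univ) (f := fun w' : hfin.toFinset => (-m w') * _) fun w' _ => by
          rw [if_neg fun hc => ?_, mul_zero]
          have := (hB w').2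
          rw [← hc.1, hxw] at this
          omega, add_zero]
        exact hs x (hxw.trans hw)
      · have hne : x ≠ x₀ := fun e => hxw (e ▸ hw.symm)
        refine ⟨fun e => absurd e hne, fun _ => ?_⟩
        by_cases hS : ∑ i, Cyc.divFun δX (ξ i) (φ i) x = 0
        · rw [hS, zero_add]
          refine Finset.sum_eq_zero fun w' _ => ?_
          split_ifs with hc
          · have hex : ∃ y, g y = w'.1 ∧ δX y = δW w'.1 + 1 := ⟨x, hc.1, by rw [← hc.1]; exact hc.2⟩
            have hy : hex.choose = x := hg.uniq _ _ (hex.choose_spec.1.trans hc.1.symm)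
              (by rw [hex.choose_spec.1]; exact hex.choose_spec.2) hc.2
            simp only [m, dif_pos hex, hy, hS, neg_zero, zero_mul]
          · rw [mul_zero]
        · obtain ⟨-, hw1, hgen⟩ := hres x hx hxw hS
          have hxB : g x ∈ hfin.toFinset := by
            obtain ⟨i, -, hi⟩ := Finset.exists_ne_zero_of_sum_ne_zero hS
            rw [Set.Finite.mem_toFinset]
            exact ⟨x, ⟨⟨hx, Set.mem_iUnion.2 ⟨i, hi⟩⟩, hxw, hS⟩, rfl⟩
          have hex : ∃ y, g y = g x ∧ δX y = δW (g x) + 1 := ⟨x, rfl, hgen⟩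
          have hy : hex.choose = x := hg.uniq _ _ hex.choose_spec.1
            (by rw [hex.choose_spec.1]; exact hex.choose_spec.2) hgen
          rw [Finset.sum_eq_single (⟨g x, hxB⟩ : hfin.toFinset)
            (fun w' _ hne' => by rw [if_neg fun hc => hne' (Subtype.ext hc.1.symm), mul_zero])
            (fun h' => absurd (Finset.mem_univ _) h'), if_pos ⟨rfl, hgen⟩]
          simp only [m, dif_pos hex, hy, mul_one, add_neg_cancel]

end Groth.Agent.AffBundleCyc
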