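import Groth.Agent.AffBundleCyc.Tower
import Groth.Agent.CycLib.RatSum

/-!
# Cycles on affine bundles are pulled back from the base
-/

set_option autoImplicit false
set_option linter.style.haveILetI false
set_option backward.isDefEq.respectTransparency false
set_option backward.isDefEq.respectTransparency.types false

universe u

open AlgebraicGeometry CategoryTheory TopologicalSpace Opposite

namespace Groth.Agent.AffBundleCyc

open H23.FiniteFibreSum H23.FlatShift

variable {X Y : Scheme.{u}}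

/-- a morphism locally isomorphic to affine space over the base is good -/
theorem good_of_affineBundle [IsLocallyNoetherian X] (f : X ⟶ Y) {δX : X → ℤ} {δY : Y → ℤ}
    (hY : Cyc.IsSetup Y δY) (hδ : Cyc.DeltaCompat f δX δY) (r : ℕ)
    (hloc : ∀ y : Y, ∃ U : Y.Opens, y ∈ U ∧ ∃ e : (↑(f ⁻¹ᵁ U) : Scheme.{u}) ≅ 𝔸(ULift.{u} (Fin r); (↑U : Scheme.{u})),
      e.hom ≫ (𝔸(ULift.{u} (Fin r); (↑U : Scheme.{u})) ↘ (↑U : Scheme.{u})) = f ∣_ U) :
    Good f δX δY r := by
  haveI := hY.1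
  refine Good.of_cover f fun z => ?_
  obtain ⟨U, hzU, e, he⟩ := hloc z
  obtain ⟨V, hV, hzV, hVU⟩ := exists_isAffineOpen_mem_and_subset hzU
  let R : CommRingCat.{u} := Γ(Y, V)
  haveI : IsNoetherianRing R := IsLocallyNoetherian.component_noetherian ⟨V, hV⟩
  let c : Spec R ⟶ (↑U : Scheme.{u}) := hV.isoSpec.inv ≫ Y.homOfLE hVU
  let i : Spec R ⟶ Y := c ≫ U.ι
  let θ : Spec (CommRingCat.of (MvPolynomial (Fin r) R)) ⟶ Spec (CommRingCat.of (MvPolynomial (ULift.{u} (Fin r)) R)) :=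
    Spec.map (CommRingCat.ofHom (MvPolynomial.renameEquiv R Equiv.ulift).toAlgHom.toRingHom)
  haveI : IsIso (CommRingCat.ofHom (MvPolynomial.renameEquiv R (Equiv.ulift.{u} (α := Fin r))).toAlgHom.toRingHom) :=
    (ConcreteCategory.isIso_iff_bijective _).2 (MvPolynomial.renameEquiv R (Equiv.ulift.{u} (α := Fin r))).bijective
  haveI : IsIso θ := inferInstanceAs (IsIso (Spec.map _))
  let a : 𝔸(ULift.{u} (Fin r); Spec R) ⟶ 𝔸(ULift.{u} (Fin r); (↑U : Scheme.{u})) := AffineSpace.map _ c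
  have hpb := AffineSpace.isPullback_map (n := ULift.{u} (Fin r)) c
  haveI : IsOpenImmersion c := inferInstance
  haveI : IsOpenImmersion a := MorphismProperty.of_isPullback (P := @IsOpenImmersion) hpb.flip inferInstance
  let j : Spec (CommRingCat.of (MvPolynomial (Fin r) R)) ⟶ X :=
    θ ≫ (AffineSpace.SpecIso (ULift.{u} (Fin r)) R).inv ≫ a ≫ e.inv ≫ (f ⁻¹ᵁ U).ι
  haveI : IsOpenImmersion j := inferInstance
  have hθ : θ ≫ Spec.map (CommRingCat.ofHom (MvPolynomial.C : R →+* MvPolynomial (ULift.{u} (Fin r)) R)) = mvProj R r := by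
    rw [mvProj, ← Spec.map_comp, ← CommRingCat.ofHom_comp]
    congr 2
    exact RingHom.ext fun s => (MvPolynomial.renameEquiv R Equiv.ulift).commutes s
  have hsq : j ≫ f = mvProj R r ≫ i := by
    have h1 : (f ⁻¹ᵁ U).ι ≫ f = (f ∣_ U) ≫ U.ι := (morphismRestrict_ι f U).symm
    simp only [j, i, Category.assoc]
    rw [h1, ← he]
    simp only [Category.assoc, Iso.inv_hom_id_assoc]
    rw [AffineSpace.map_over_assoc, AffineSpace.SpecIso_inv_over_assoc, ← hθ]
    simp only [c, Category.assoc]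
  haveI : IsOpenImmersion i := inferInstance
  haveI : IsLocallyNoetherian (Spec (CommRingCat.of (MvPolynomial (Fin r) R))) := inferInstance
  refine ⟨_, _, j, i, mvProj R r, inferInstance, inferInstance, inferInstance, inferInstance, hsq, ?_, ?_, ?_⟩
  · refine ⟨hV.isoSpec.hom ⟨z, hzV⟩, ?_⟩
    show ((hV.isoSpec.inv ≫ Y.homOfLE hVU) ≫ U.ι) (hV.isoSpec.hom ⟨z, hzV⟩) = z
    rw [Category.assoc, Scheme.homOfLE_ι, ← Scheme.Hom.comp_apply, Iso.hom_inv_id_assoc]
    rfl
  · rintro x ⟨y, hy⟩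
    have hxU : x ∈ f ⁻¹ᵁ U := by
      show f x ∈ U
      rw [← hy]
      exact (c y).2
    have h2 : (𝔸(ULift.{u} (Fin r); (↑U : Scheme.{u})) ↘ (↑U : Scheme.{u})) (e.hom ⟨x, hxU⟩) = c y := by
      refine Subtype.ext ?_
      rw [← Scheme.Hom.comp_apply, he]
      exact (congrArg (fun m : (↑(f ⁻¹ᵁ U) : Scheme.{u}) ⟶ Y => m ⟨x, hxU⟩) (morphismRestrict_ι f U)).trans hy.symm
    obtain ⟨w, hw, -⟩ := Scheme.exists_preimage_of_isPullback hpb (e.hom ⟨x, hxU⟩) y h2
    refine ⟨(inv θ) ((AffineSpace.SpecIso (ULift.{u} (Fin r)) R).hom w), ?_⟩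
    simp only [j, ← Scheme.Hom.comp_apply, ← Category.assoc, IsIso.inv_hom_id, Category.comp_id]
    simp only [Category.assoc, IsIso.inv_hom_id_assoc, Iso.hom_inv_id_assoc]
    rw [Scheme.Hom.comp_apply, Scheme.Hom.comp_apply, show a w = e.hom ⟨x, hxU⟩ from hw]
    exact (Scheme.Hom.comp_apply e.hom (e.inv ≫ (f ⁻¹ᵁ U).ι) ⟨x, hxU⟩).symm.trans
      (congrArg (fun m : (↑(f ⁻¹ᵁ U) : Scheme.{u}) ⟶ X => m ⟨x, hxU⟩) (Iso.hom_inv_id_assoc e _))
  · refine good_mv r R _ _ ?_ ?_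
    · refine H23.SetupLFT.isSetup i hY ?_
      intro w
      exact ⟨0, (VarDim.rdeg_preimmersion i w).trans Nat.cast_zero.symm, by simp⟩
    · intro w
      obtain ⟨n, hn, e'⟩ := hδ (j w)
      refine ⟨n, ?_, ?_⟩
      · have h3 : VarDim.rdeg (j ≫ f) w = VarDim.rdeg (mvProj R r ≫ i) w := VarDim.rdeg_congr hsq w
        rw [VarDim.rdeg_comp j f, VarDim.rdeg_comp (mvProj R r) i, VarDim.rdeg_preimmersion j, VarDim.rdeg_preimmersion i, add_zero, zero_add] at h3
        show VarDim.rdeg (mvProj R r) w = n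
        rw [← h3]
        exact hn
      · have h4 : f (j w) = i (mvProj R r w) :=
          (Scheme.Hom.comp_apply j f w).symm.trans ((congrArg (fun m : Spec (CommRingCat.of (MvPolynomial (Fin r) R)) ⟶ Y => m w) hsq).trans
            (Scheme.Hom.comp_apply _ _ w))
        rw [h4] at e'
        exact e'

/-- cycles in lower levels are moved by rational equivalence -/
theorem exists_ratEquiv_lower [IsLocallyNoetherian X] (f : X ⟶ Y) [QuasiCompact f] {δX : X → ℤ} {δY : Y → ℤ}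
    (hdX : Cyc.IsDimFun X δX) (hdY : Cyc.IsDimFun Y δY) {r : ℤ} (hf : Good f δX δY r) (l : ℤ) (t : ℤ)
    (ht : l - r < t) (β : AlgebraicCycle X ℤ) (hβ : β ∈ Cyc.Zk X δX l) (hlev : ∀ x, β x ≠ 0 → δY (f x) ≤ t) :
    ∃ β' : AlgebraicCycle X ℤ, β' ∈ Cyc.Zk X δX l ∧ (∀ x, β' x ≠ 0 → δY (f x) ≤ t - 1) ∧
      Cyc.RatEquivZero δX l (β - β') := by
  classical
  let P := {x : X // β x ≠ 0 ∧ δY (f x) = t}
  have hδP : ∀ x : P, δX x.1 = l := fun x => by_contra fun h => x.2.1 (hβ x.1 h)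
  choose κ instκ η ψ hη hs using fun x : P => hf.kill x.1 (by rw [hδP x, x.2.2]; omega)
  letI : ∀ x : P, Fintype (κ x) := instκ
  let Ξ : (Σ x : P, κ x) → X := fun s => η s.1 s.2
  let Φ : ∀ s : (Σ x : P, κ x), X.residueField (Ξ s) := fun s => ψ s.1 s.2 ^ (β s.1.1)
  have hΦ : ∀ s, Φ s ≠ 0 := fun s => zpow_ne_zero _ (hη s.1 s.2).2.2
  have hfin : ∀ x : X, ∃ U : Set X, IsOpen U ∧ x ∈ U ∧ {s | (closure {Ξ s} ∩ U).Nonempty}.Finite := fun x => by
    obtain ⟨V, hV, hxV, -⟩ := exists_isAffineOpen_mem_and_subset (x := f x) (U := ⊤) trivial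
    refine ⟨f ⁻¹ᵁ V, (f ⁻¹ᵁ V).2, hxV, ?_⟩
    have h1 : {p : P | p.1 ∈ f ⁻¹ᵁ V}.Finite := by
      refine ((β.locallyFiniteSupport.finite_inter_support_of_isCompact (f.isCompact_preimage hV.isCompact)).preimage
        Subtype.val_injective.injOn).subset ?_
      intro p hp
      exact ⟨hp, p.2.1⟩
    refine (h1.biUnion fun p _ => Set.finite_range fun i : κ p => (⟨p, i⟩ : Σ x : P, κ x)).subset ?_
    rintro ⟨p, i⟩ ⟨w, hw, hwV⟩
    refine Set.mem_biUnion ?_ ⟨i, rfl⟩
    show f p.1 ∈ V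
    rw [← (hη p i).1]
    exact ((specializes_iff_mem_closure.2 hw).map f.continuous).mem_open V.2 hwV
  let D := CycLib.sumDiv hdX Ξ Φ hΦ hfin
  have hΞ : ∀ s, δX (Ξ s) = l + 1 := fun s => by rw [(hη s.1 s.2).2.1, hδP]
  have hD : ∀ x, δX x ≠ l → D x = 0 := fun x hx => by
    rw [CycLib.sumDiv_apply]
    exact finsum_eq_zero_of_forall_eq_zero fun s => CycLib.divFun_eq_zero_of_delta δX _ (by rw [hΞ]; omega)
  -- the values of the correction in the top level
  have hval : ∀ x, δX x = l → t ≤ δY (f x) → D x = if δY (f x) = t then β x else 0 := by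
    intro x hx htx
    rw [CycLib.sumDiv_apply]
    have hz : ∀ s, Cyc.divFun δX (Ξ s) (Φ s) x ≠ 0 → δY (f x) = t ∧ f s.1.1 = f x := fun s hs' => by
      have hsp : f s.1.1 ⤳ f x := (hη s.1 s.2).1 ▸
        (specializes_iff_mem_closure.2 (CycLib.mem_closure_of_divFun_ne_zero hs')).map f.continuous
      have := CycLib.delta_le hdY hsp
      have h2 := s.1.2.2
      exact ⟨by omega, CycLib.eq_of_delta_le hdY hsp (by omega)⟩
    split_ifs with hxt
    swap
    · exact finsum_eq_zero_of_forall_eq_zero fun s => by_contra fun h => hxt (hz s h).1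
    have hsupp := CycLib.finite_index (δ := δX) Ξ Φ hfin x
    let Q : Finset P := hsupp.toFinset.image Sigma.fst ∪ (if h : β x ≠ 0 then {⟨x, h, hxt⟩} else ∅)
    rw [finsum_eq_sum_of_support_subset (s := Q.sigma fun _ => Finset.univ) _ fun s hs' => by
      simp only [Finset.coe_sigma, Set.mem_sigma_iff, Finset.coe_univ, Set.mem_univ, and_true, Finset.mem_coe]
      exact Finset.mem_union_left _ (Finset.mem_image.2 ⟨s, hsupp.mem_toFinset.2 hs', rfl⟩), Finset.sum_sigma]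
    have key : ∀ p : P, ∑ i, Cyc.divFun δX (Ξ ⟨p, i⟩) (Φ ⟨p, i⟩) x = if p.1 = x then β x else 0 := fun p => by
      have e1 : ∑ i, Cyc.divFun δX (Ξ ⟨p, i⟩) (Φ ⟨p, i⟩) x = β p.1 * ∑ i, Cyc.divFun δX (η p i) (ψ p i) x := by
        rw [Finset.mul_sum]
        exact Finset.sum_congr rfl fun i _ => divFun_zpow hdX (hη p i).2.2 _ x
      rw [e1]
      by_cases hpx : p.1 = x
      · rw [if_pos hpx, (hs p x (by rw [hpx])).1 hpx.symm, hpx, mul_one]
      · rw [if_neg hpx]
        by_cases hfx : f p.1 = f x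
        · rw [(hs p x hfx.symm).2 (Ne.symm hpx), mul_zero]
        · rw [Finset.sum_eq_zero fun i _ => by_contra fun h => hfx (hz ⟨p, i⟩ (by
            show Cyc.divFun δX (η p i) (ψ p i ^ _) x ≠ 0
            rw [divFun_zpow hdX (hη p i).2.2]
            exact mul_ne_zero p.2.1 h)).2, mul_zero]
    rw [Finset.sum_congr rfl fun p _ => key p]
    by_cases hβx : β x = 0
    · exact (Finset.sum_eq_zero fun p _ => by split_ifs <;> simp [hβx]).trans hβx.symm
    · rw [Finset.sum_eq_single (⟨x, hβx, hxt⟩ : P) (fun p _ hp => if_neg fun h => hp (Subtype.ext h))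
        (fun h => absurd (Finset.mem_union_right _ (by rw [dif_pos hβx]; exact Finset.mem_singleton_self _)) h),
        if_pos rfl]
  refine ⟨β - D, fun x hx => ?_, fun x hx => ?_, ?_⟩
  · show β x - D x = 0
    rw [hβ x hx, hD x hx, sub_zero]
  · change β x - D x ≠ 0 at hx
    by_contra hlt
    push Not at hlt
    rcases eq_or_ne (δX x) l with hl | hl
    · rw [hval x hl (by omega)] at hx
      split_ifs at hx with h
      · exact hx (sub_self _)
      · have : β x ≠ 0 := by simpa using hx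
        have := hlev x this
        omega
    · exact hx (by rw [hβ x hl, hD x hl, sub_zero])
  · rw [sub_sub_cancel]
    exact ⟨_, Ξ, Φ, hΞ, hΦ, hfin, fun x => CycLib.sumDiv_apply hdX Ξ Φ hΦ hfin x⟩

end Groth.Agent.AffBundleCyc
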