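import Groth.Agent.AffBundleCyc.Good
import Groth.Agent.CycLib.LFT
import Groth.Agent.VarDim.Fibre
import Mathlib.RingTheory.Polynomial.Basic

/-!
# Fibrewise killing on the affine line
-/

set_option autoImplicit false
set_option linter.style.haveILetI false
set_option backward.isDefEq.respectTransparency false
set_option backward.isDefEq.respectTransparency.types false

universe u

open AlgebraicGeometry CategoryTheory TopologicalSpace Polynomial Opposite

namespace Groth.Agent.AffBundleCyc

open H23.FiniteFibreSum H23.FlatShift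

section Stalk

variable (R : Type u) [CommRing R]

theorem maximalIdeal_stalk (x : PrimeSpectrum R) :
    IsLocalRing.maximalIdeal ((Spec (CommRingCat.of R)).presheaf.stalk x) =
      x.asIdeal.map (StructureSheaf.toStalk R x).hom :=
  haveI : IsLocalRing ((Spec.structureSheaf R).presheaf.stalk x) :=
    inferInstanceAs (IsLocalRing ((Spec (CommRingCat.of R)).presheaf.stalk x))
  (IsLocalization.AtPrime.map_eq_maximalIdeal x.asIdeal ((Spec.structureSheaf R).presheaf.stalk x)).symm

theorem isUnit_toStalk (x : PrimeSpectrum R) {a : R} (ha : a ∉ x.asIdeal) :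
    IsUnit (M := (Spec (CommRingCat.of R)).presheaf.stalk x) ((StructureSheaf.toStalk R x).hom a) :=
  IsLocalization.map_units ((Spec.structureSheaf R).presheaf.stalk x) (⟨a, ha⟩ : x.asIdeal.primeCompl)

theorem toStalk_mem_maximalIdeal_iff (x : PrimeSpectrum R) (a : R) :
    (StructureSheaf.toStalk R x).hom a ∈ IsLocalRing.maximalIdeal ((Spec (CommRingCat.of R)).presheaf.stalk x) ↔
      a ∈ x.asIdeal :=
  IsLocalization.AtPrime.to_map_mem_maximal_iff ((Spec.structureSheaf R).presheaf.stalk x) x.asIdeal a

end Stalk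

variable {S : Type u} [CommRing S]

/-- the projection of the affine line -/
noncomputable def lineProj (S : Type u) [CommRing S] : Spec (CommRingCat.of S[X]) ⟶ Spec (CommRingCat.of S) :=
  Spec.map (CommRingCat.ofHom (C : S →+* S[X]))

theorem lineProj_asIdeal (q : Spec (CommRingCat.of S[X])) :
    (lineProj S q).asIdeal = q.asIdeal.comap C := rfl

/-- the generic point of a fibre -/
noncomputable def gen (p : Spec (CommRingCat.of S)) : Spec (CommRingCat.of S[X]) :=
  ⟨p.asIdeal.map C, haveI := p.isPrime; Ideal.isPrime_map_C_of_isPrime⟩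

theorem lineProj_gen (p : Spec (CommRingCat.of S)) : lineProj S (gen p) = p := by
  refine PrimeSpectrum.ext ?_
  rw [lineProj_asIdeal]
  refine le_antisymm (fun s hs => ?_) Ideal.le_comap_map
  have := Ideal.mem_map_C_iff.1 hs 0
  rwa [coeff_C_zero] at this

theorem gen_le {p : Spec (CommRingCat.of S)} {q : Spec (CommRingCat.of S[X])} (h : lineProj S q = p) :
    gen p ⤳ q := by
  refine (PrimeSpectrum.le_iff_specializes _ _).1 (Ideal.map_le_iff_le_comap.2 ?_)
  rw [← lineProj_asIdeal, h]

/-- the zero section -/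
noncomputable def zeroSec (S : Type u) [CommRing S] : Spec (CommRingCat.of S) ⟶ Spec (CommRingCat.of S[X]) :=
  Spec.map (CommRingCat.ofHom (evalRingHom 0))

theorem zeroSec_comp : zeroSec S ≫ lineProj S = 𝟙 _ := by
  have e : (evalRingHom (0 : S)).comp C = RingHom.id S := RingHom.ext fun s => eval_C
  rw [zeroSec, lineProj, ← Spec.map_comp, ← CommRingCat.ofHom_comp, e]
  exact Spec.map_id _

instance : IsClosedImmersion (zeroSec S) :=
  IsClosedImmersion.spec_of_surjective _ fun s => ⟨C s, eval_C⟩

variable {δX : Spec (CommRingCat.of S[X]) → ℤ} {δY : Spec (CommRingCat.of S) → ℤ}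

theorem delta_zeroSec (hc : Cyc.DeltaCompat (lineProj S) δX δY) (p : Spec (CommRingCat.of S)) :
    δX (zeroSec S p) = δY p := by
  obtain ⟨n, hn, e⟩ := hc (zeroSec S p)
  have h1 : VarDim.rdeg (zeroSec S ≫ lineProj S) p = 0 := by
    rw [VarDim.rdeg_congr zeroSec_comp, VarDim.rdeg_preimmersion]
  rw [VarDim.rdeg_comp, VarDim.rdeg_preimmersion (zeroSec S), add_zero] at h1
  have h2 : (n : Cardinal.{u}) = 0 := hn.symm.trans h1
  have hp : lineProj S (zeroSec S p) = p := by
    rw [← Scheme.Hom.comp_apply, zeroSec_comp]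
    rfl
  rw [e, hp, Nat.cast_eq_zero.1 h2]
  simp

theorem zeroSec_asIdeal (p : Spec (CommRingCat.of S)) (a : S[X]) :
    a ∈ (zeroSec S p).asIdeal ↔ a.eval 0 ∈ p.asIdeal := Iff.rfl

theorem between (p : Spec (CommRingCat.of S)) (Q : Ideal S[X]) [Q.IsPrime] (h1 : p.asIdeal.map C ≤ Q)
    (h2 : ∀ a ∈ Q, a.eval 0 ∈ p.asIdeal) : Q = p.asIdeal.map C ∨ ∀ a, a.eval 0 ∈ p.asIdeal → a ∈ Q := by
  by_cases hX : (X : S[X]) ∈ Q
  · refine Or.inr fun a ha => ?_
    rw [← X_mul_divX_add a]
    refine Q.add_mem (Q.mul_mem_right _ hX) (h1 (Ideal.mem_map_of_mem C ?_))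
    rwa [coeff_zero_eq_eval_zero]
  · refine Or.inl (le_antisymm ?_ h1)
    intro a
    induction hn : a.natDegree using Nat.strong_induction_on generalizing a with
    | _ n ih =>
      intro ha
      have h0 : a.coeff 0 ∈ p.asIdeal := by rw [coeff_zero_eq_eval_zero]; exact h2 a ha
      rw [← X_mul_divX_add a]
      refine Ideal.add_mem _ (Ideal.mul_mem_left _ _ ?_) (Ideal.mem_map_of_mem C h0)
      rcases Nat.eq_zero_or_pos n with rfl | hpos
      · rw [divX_eq_zero_iff.2 (eq_C_of_natDegree_eq_zero hn)]
        exact Ideal.zero_mem _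
      refine ih (divX a).natDegree (by rw [natDegree_divX_eq_natDegree_tsub_one, hn]; omega) (a := divX a) rfl ?_
      refine (Ideal.IsPrime.mem_or_mem ‹_› (show X * divX a ∈ Q from ?_)).resolve_left hX
      have := Q.sub_mem ha (h1 (Ideal.mem_map_of_mem C h0))
      rwa [← eq_sub_of_add_eq (X_mul_divX_add a)] at this

variable (hd : Cyc.IsDimFun (Spec (CommRingCat.of S[X])) δX) (hc : Cyc.DeltaCompat (lineProj S) δX δY)
include hd hc

theorem delta_gen (p : Spec (CommRingCat.of S)) : δX (gen p) = δY p + 1 := by
  rw [← delta_zeroSec hc p]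
  have hp : lineProj S (zeroSec S p) = p := by
    rw [← Scheme.Hom.comp_apply, zeroSec_comp]; rfl
  have hne : gen p ≠ zeroSec S p := fun h => by
    have hX : (X : S[X]) ∈ (gen p).asIdeal := by rw [h, zeroSec_asIdeal, eval_X]; exact p.asIdeal.zero_mem
    have := Ideal.mem_map_C_iff.1 hX 1
    rw [coeff_X_one] at this
    exact p.isPrime.ne_top ((Ideal.eq_top_iff_one _).2 this)
  refine (hd _ _ (gen_le hp) hne).2 fun z h1 h2 => ?_
  rcases between p z.asIdeal ((PrimeSpectrum.le_iff_specializes _ _).2 h1)
    (fun a ha => (zeroSec_asIdeal p a).1 ((PrimeSpectrum.le_iff_specializes _ _).2 h2 ha)) with h | h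
  · exact Or.inl (PrimeSpectrum.ext h)
  · exact Or.inr (PrimeSpectrum.ext (le_antisymm ((PrimeSpectrum.le_iff_specializes _ _).2 h2)
      fun a ha => h a ((zeroSec_asIdeal p a).1 ha)))

theorem eq_gen_or (q : Spec (CommRingCat.of S[X])) :
    q = gen (lineProj S q) ∨ δX q = δY (lineProj S q) := by
  by_cases h : gen (lineProj S q) = q
  · exact Or.inl h.symm
  · refine Or.inr ?_
    have h1 := CycLib.delta_lt hd (gen_le rfl) h
    rw [delta_gen hd hc] at h1
    obtain ⟨n, -, e⟩ := hc q
    omega

theorem good_line [IsNoetherianRing S] : Good (lineProj S) δX δY 1 where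
  le q := by
    rcases eq_gen_or hd hc q with h | h
    · conv_lhs => rw [h]
      rw [delta_gen hd hc]
    · omega
  uniq q q' e hq hq' := by
    rcases eq_gen_or hd hc q with h | h
    · rcases eq_gen_or hd hc q' with h' | h'
      · rw [h, h', e]
      · omega
    · omega
  len q hq := by
    rcases eq_gen_or hd hc q with h | h
    swap
    · omega
    have h1 : (IsLocalRing.maximalIdeal ((Spec (CommRingCat.of S)).presheaf.stalk (lineProj S q))).map
        ((lineProj S).stalkMap q).hom = IsLocalRing.maximalIdeal ((Spec (CommRingCat.of S[X])).presheaf.stalk q) := by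
      rw [maximalIdeal_stalk, maximalIdeal_stalk, Ideal.map_map]
      have hq' : q.asIdeal = (lineProj S q).asIdeal.map C := congrArg PrimeSpectrum.asIdeal h
      have e : (((lineProj S).stalkMap q).hom).comp (StructureSheaf.toStalk (CommRingCat.of S) (lineProj S q)).hom =
          (StructureSheaf.toStalk (CommRingCat.of S[X]) q).hom.comp C :=
        congrArg CommRingCat.Hom.hom (stalkMap_toStalk (CommRingCat.ofHom (C : S →+* S[X])) q)
      rw [hq']
      refine (congrArg (fun m => (lineProj S q).asIdeal.map m) e).trans ?_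
      exact (Ideal.map_map _ _).symm
    rw [fibreLen, h1]
    exact Module.length_eq_one_iff.2 (isSimpleModule_iff_isCoatom.2 (IsLocalRing.maximalIdeal.isMaximal _).out)
  kill q hq := by
    classical
    obtain ⟨p, hp⟩ : ∃ p, p = lineProj S q := ⟨_, rfl⟩
    rw [← hp] at hq
    have hgq : gen p ⤳ q := gen_le hp.symm
    have hne : ∃ a ∈ q.asIdeal, a ∉ (gen p).asIdeal := by
      by_contra hcon
      push Not at hcon
      have : q = gen p := PrimeSpectrum.ext (le_antisymm (fun a ha => hcon a ha)
        ((PrimeSpectrum.le_iff_specializes _ _).2 hgq))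
      rw [this, delta_gen hd hc] at hq
      omega
    let D : ℕ → Prop := fun n => ∃ a ∈ q.asIdeal, a ∉ (gen p).asIdeal ∧ a.natDegree = n
    have hD : ∃ n, D n := ⟨_, hne.choose, hne.choose_spec.1, hne.choose_spec.2, rfl⟩
    obtain ⟨P, hPq, hPg, hPd⟩ := Nat.find_spec hD
    have hmin : ∀ a ∈ q.asIdeal, a.natDegree < P.natDegree → a ∈ (gen p).asIdeal := fun a ha hlt =>
      by_contra fun hg => Nat.find_min hD (hPd ▸ hlt) ⟨a, ha, hg, rfl⟩
    have hP0 : P ≠ 0 := fun h => hPg (h ▸ Ideal.zero_mem _)
    have hpC : ∀ s ∈ p.asIdeal, C s ∈ q.asIdeal := fun s hs => by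
      rw [hp] at hs
      exact hs
    have hlc : P.leadingCoeff ∉ p.asIdeal := fun hs => by
      have hCg : C P.leadingCoeff * X ^ P.natDegree ∈ (gen p).asIdeal :=
        Ideal.mul_mem_right _ _ (Ideal.mem_map_of_mem C hs)
      rcases Nat.eq_zero_or_pos P.natDegree with h0 | h0
      · refine hPg ?_
        rw [h0, pow_zero, mul_one, leadingCoeff, h0, ← eq_C_of_natDegree_eq_zero h0] at hCg
        exact hCg
      have h1 : P.eraseLead ∈ q.asIdeal := by
        rw [← self_sub_C_mul_X_pow]
        exact q.asIdeal.sub_mem hPq (q.asIdeal.mul_mem_right _ (hpC _ hs))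
      have h2 := hmin _ h1 (eraseLead_natDegree_le _ |>.trans_lt (by omega))
      exact hPg (eraseLead_add_C_mul_X_pow P ▸ Ideal.add_mem _ h2 hCg)
    have hdiv : ∀ a ∈ q.asIdeal, ∃ s ∉ p.asIdeal, ∃ b, C s * a - P * b ∈ (gen p).asIdeal := by
      intro a
      induction hn : a.natDegree using Nat.strong_induction_on generalizing a with
      | _ n ih =>
        intro ha
        by_cases hlt : a.natDegree < P.natDegree
        · exact ⟨1, fun h => p.isPrime.ne_top ((Ideal.eq_top_iff_one _).2 h), 0, by simpa using hmin a ha hlt⟩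
        push Not at hlt
        let m := C a.leadingCoeff * X ^ (a.natDegree - P.natDegree)
        let a' := C P.leadingCoeff * a - P * m
        have ha' : a' ∈ q.asIdeal := q.asIdeal.sub_mem (q.asIdeal.mul_mem_left _ ha) (q.asIdeal.mul_mem_right _ hPq)
        by_cases h0 : a' = 0
        · exact ⟨P.leadingCoeff, hlc, m, by show a' ∈ _; rw [h0]; exact Ideal.zero_mem _⟩
        by_cases hn0 : n = 0
        · refine ⟨P.leadingCoeff, hlc, m, ?_⟩
          have hP : P.natDegree = 0 := by omega
          have : a' = 0 := by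
            obtain ⟨c, rfl⟩ := natDegree_eq_zero.1 (hn.trans hn0)
            obtain ⟨d, hd⟩ := natDegree_eq_zero.1 hP
            simp only [a', m, ← hd, natDegree_C, leadingCoeff_C, Nat.sub_self, pow_zero, mul_one]
            exact sub_self _
          exact absurd this h0
        have hdeg : a'.natDegree < n := by
          refine lt_of_le_of_ne ?_ fun he => ?_
          · refine (natDegree_sub_le _ _).trans (max_le ?_ ?_)
            · exact (natDegree_C_mul_le _ _).trans hn.le
            · refine natDegree_mul_le.trans ?_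
              have hm : m.natDegree ≤ a.natDegree - P.natDegree := natDegree_C_mul_X_pow_le _ _
              omega
          · have : a'.coeff n = 0 := by
              simp only [a', m, coeff_sub, coeff_C_mul, ← mul_assoc]
              rw [coeff_mul_X_pow', if_pos (by omega), show n - (a.natDegree - P.natDegree) = P.natDegree by omega,
                coeff_mul_C]
              subst hn
              simp only [leadingCoeff]
              ring
            rw [← he] at this
            exact h0 (leadingCoeff_eq_zero.1 this)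
        obtain ⟨s, hs, b, hb⟩ := ih _ hdeg a' rfl ha'
        refine ⟨s * P.leadingCoeff, fun h => (p.isPrime.mem_or_mem h).elim hs hlc, C s * m + b, ?_⟩
        convert hb using 1
        simp only [a', C_mul]
        ring
    -- the rational function
    let φ : ∀ (x : Spec (CommRingCat.of S[X])) (_ : gen p ⤳ x), S[X] →+*
        (Spec (CommRingCat.of S[X])).residueField (gen p) :=
      fun x hx => (Cyc.specMap x (gen p) hx).comp (StructureSheaf.toStalk S[X] x).hom
    have hφ : ∀ x hx, φ x hx = φ (gen p) specializes_rfl := fun x hx => RingHom.ext fun a => by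
      show Cyc.specMap x (gen p) hx _ = Cyc.specMap (gen p) (gen p) specializes_rfl _
      simp only [Cyc.specMap, CommRingCat.hom_comp, RingHom.comp_apply]
      refine congrArg _ ?_
      exact (congrArg (fun m : CommRingCat.of S[X] ⟶ _ => m.hom a) (StructureSheaf.toStalk_stalkSpecializes hx)).trans
        (congrArg (fun m : CommRingCat.of S[X] ⟶ _ => m.hom a)
          (StructureSheaf.toStalk_stalkSpecializes (specializes_refl (gen p)))).symm
    have hker : ∀ a, φ (gen p) specializes_rfl a = 0 ↔ a ∈ (gen p).asIdeal := fun a => by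
      rw [← toStalk_mem_maximalIdeal_iff S[X] (gen p) a]
      show Cyc.specMap (gen p) (gen p) specializes_rfl _ = 0 ↔ _
      rw [Cyc.specMap, TopCat.Presheaf.stalkSpecializes_refl, Category.id_comp]
      exact IsLocalRing.residue_eq_zero_iff _
    have hg0 : φ (gen p) specializes_rfl P ≠ 0 := fun h => hPg ((hker P).1 h)
    have hδq : δX q = δY p := by
      rcases eq_gen_or hd hc q with h | h
      · rw [h, ← hp, delta_gen hd hc] at hq
        omega
      · rwa [← hp] at h
    haveI : IsLocallyNoetherian (Spec (CommRingCat.of S[X])) := inferInstance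
    refine ⟨PUnit, inferInstance, fun _ => gen p, fun _ => φ (gen p) specializes_rfl P,
      fun _ => ⟨(lineProj_gen p).trans hp, by rw [delta_gen hd hc]; omega, hg0⟩, fun x hx => ?_⟩
    rw [← hp] at hx
    simp only [Finset.univ_unique, Finset.sum_singleton]
    refine ⟨fun e => ?_, fun e => ?_⟩
    · subst e
      have hx' : δX x + 1 = δX (gen p) := by rw [delta_gen hd hc]; omega
      rw [CycLib.divFun_eq δX _ hgq hx', ← hφ x hgq]
      let L := Cyc.LocQuot x (gen p) hgq
      let ψ : S[X] →+* L := (Ideal.Quotient.mk _).comp (StructureSheaf.toStalk S[X] x).hom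
      have hψ : ∀ a, a ∈ (gen p).asIdeal → ψ a = 0 := fun a ha =>
        Ideal.Quotient.eq_zero_iff_mem.2 (show φ x hgq a = 0 by rw [hφ]; exact (hker a).2 ha)
      show Cyc.ordAt x (gen p) hgq (algebraMap L _ (ψ P)) = 1
      have hψP : ψ P ≠ 0 := fun h => hg0 (by rw [← hφ x hgq]; exact Ideal.Quotient.eq_zero_iff_mem.1 h)
      rw [CycLib.ordAt_algebraMap hd hgq hx' hψP]
      haveI : Nontrivial L := Ideal.Quotient.nontrivial_iff.2 (RingHom.ker_ne_top _)
      haveI : IsLocalRing L := IsLocalRing.of_surjective' (Ideal.Quotient.mk _) Ideal.Quotient.mk_surjective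
      have hunit : ∀ s ∉ p.asIdeal, IsUnit (ψ (C s)) := fun s hs => by
        refine IsUnit.map (Ideal.Quotient.mk (RingHom.ker (Cyc.specMap x (gen p) hgq))) (isUnit_toStalk S[X] x fun h => hs ?_)
        rw [hp]
        exact h
      have hmax : Ideal.span {ψ P} = IsLocalRing.maximalIdeal L := by
        have e1 : (IsLocalRing.maximalIdeal ((Spec (CommRingCat.of S[X])).presheaf.stalk x)).map
            (Ideal.Quotient.mk (RingHom.ker (Cyc.specMap x (gen p) hgq))) = IsLocalRing.maximalIdeal L :=
          IsLocalRing.map_maximalIdeal_of_surjective _ Ideal.Quotient.mk_surjective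
        rw [← e1, maximalIdeal_stalk, Ideal.map_map]
        refine le_antisymm ((Ideal.span_singleton_le_iff_mem _).2 (Ideal.mem_map_of_mem _ hPq))
          (Ideal.map_le_iff_le_comap.2 fun a ha => ?_)
        obtain ⟨s, hs, b, hb⟩ := hdiv a ha
        have h3 := hψ _ hb
        rw [map_sub, map_mul, map_mul, sub_eq_zero] at h3
        show ψ a ∈ Ideal.span {ψ P}
        rw [← Ideal.unit_mul_mem_iff_mem _ (hunit s hs), h3]
        exact Ideal.mul_mem_right _ _ (Ideal.mem_span_singleton_self _)
      have hord : Ring.ord L (ψ P) = 1 := by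
        rw [Ring.ord, hmax]
        exact Module.length_eq_one_iff.2 (isSimpleModule_iff_isCoatom.2 (IsLocalRing.maximalIdeal.isMaximal _).out)
      rw [hord]
      rfl
    · by_cases hc' : gen p ⤳ x ∧ δX x + 1 = δX (gen p)
      swap
      · rw [Cyc.divFun, dif_neg hc']
      rw [CycLib.divFun_eq δX _ hc'.1 hc'.2, ← hφ x hc'.1]
      refine CycLib.ordAt_eq_zero_of_isUnit hd hc'.1 hc'.2 ?_
      refine isUnit_toStalk S[X] x fun hPx => ?_
      have hle : q.asIdeal ≤ x.asIdeal := fun a ha => by
        obtain ⟨s, hs, b, hb⟩ := hdiv a ha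
        have h1 := (PrimeSpectrum.le_iff_specializes _ _).2 hc'.1 hb
        have h2 : C s * a ∈ x.asIdeal := by
          have := x.asIdeal.add_mem h1 (x.asIdeal.mul_mem_right b hPx)
          rwa [sub_add_cancel] at this
        refine (x.isPrime.mem_or_mem h2).resolve_left fun h => hs ?_
        rw [← hx]
        exact h
      have hsp : q ⤳ x := (PrimeSpectrum.le_iff_specializes _ _).1 hle
      refine e (CycLib.eq_of_delta_le hd hsp ?_).symm
      rw [delta_gen hd hc] at hc'
      omega

end Groth.Agent.AffBundleCyc
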