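import Groth.Agent.AffBundleCyc.Good

/-!
# Transfer of fibrewise killing along open immersions
-/

set_option autoImplicit false
set_option linter.style.haveILetI false
set_option backward.isDefEq.respectTransparency false
set_option backward.isDefEq.respectTransparency.types false

universe u

open AlgebraicGeometry CategoryTheory TopologicalSpace

namespace Groth.Agent.AffBundleCyc

open H23.FiniteFibreSum H23.FlatShift

variable {X X' Y Y' : Scheme.{u}}

theorem fibreLen_openImmersion (j : X' ⟶ X) [IsOpenImmersion j] (x : X') : fibreLen j x = 1 := by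
  let e : X.presheaf.stalk (j x) ≃+* X'.presheaf.stalk x := (asIso (j.stalkMap x)).commRingCatIsoToRingEquiv
  have h1 : (IsLocalRing.maximalIdeal (X.presheaf.stalk (j x))).map (j.stalkMap x).hom =
      IsLocalRing.maximalIdeal (X'.presheaf.stalk x) := IsLocalRing.map_ringEquiv_maximalIdeal e
  rw [fibreLen, h1]
  exact Module.length_eq_one_iff.2 (isSimpleModule_iff_isCoatom.2 (IsLocalRing.maximalIdeal.isMaximal _).out)

theorem fibreLen_of_square (j : X' ⟶ X) (i : Y' ⟶ Y) [IsOpenImmersion j] [IsOpenImmersion i] (f : X ⟶ Y)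
    (f' : X' ⟶ Y') [Flat f'] (e : j ≫ f = f' ≫ i) (x : X') : fibreLen f (j x) = fibreLen f' x := by
  have h1 := CycLib.length_fibre_comp j f x
  have h2 := CycLib.length_fibre_comp f' i x
  have h : fibreLen (j ≫ f) x = fibreLen (f' ≫ i) x := by rw [e]
  change fibreLen (j ≫ f) x = fibreLen f (j x) * fibreLen j x at h1
  change fibreLen (f' ≫ i) x = fibreLen i (f' x) * fibreLen f' x at h2
  rw [h1, h2, fibreLen_openImmersion i, fibreLen_openImmersion j, mul_one, one_mul] at h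
  exact h

/-- fibrewise killing is local on the base and invariant under isomorphisms -/
theorem Good.of_cover [IsLocallyNoetherian X] (f : X ⟶ Y) {δX : X → ℤ} {δY : Y → ℤ} {r : ℤ}
    (h : ∀ z : Y, ∃ (X' Y' : Scheme.{u}) (j : X' ⟶ X) (i : Y' ⟶ Y) (f' : X' ⟶ Y'),
      IsOpenImmersion j ∧ IsOpenImmersion i ∧ Flat f' ∧ IsLocallyNoetherian X' ∧ j ≫ f = f' ≫ i ∧
      z ∈ Set.range i ∧ f ⁻¹' Set.range i ⊆ Set.range j ∧
      Good f' (fun x => δX (j x)) (fun y => δY (i y)) r) : Good f δX δY r := by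
  have main : ∀ x : X, ∃ (X' Y' : Scheme.{u}) (j : X' ⟶ X) (i : Y' ⟶ Y) (f' : X' ⟶ Y'),
      IsOpenImmersion j ∧ IsOpenImmersion i ∧ Flat f' ∧ IsLocallyNoetherian X' ∧
      (∀ a, f (j a) = i (f' a)) ∧ (j ≫ f = f' ≫ i) ∧
      (∀ y, f y = f x → y ∈ Set.range j) ∧ Good f' (fun x => δX (j x)) (fun y => δY (i y)) r := fun x => by
    obtain ⟨X', Y', j, i, f', hj, hi, hf, hn, e, hz, hr, hg⟩ := h (f x)
    refine ⟨X', Y', j, i, f', hj, hi, hf, hn, fun a => ?_, e, fun y hy => hr (show f y ∈ Set.range i from hy ▸ hz), hg⟩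
    rw [← Scheme.Hom.comp_apply, e, Scheme.Hom.comp_apply]
  refine ⟨fun x => ?_, fun x hx => ?_, fun x x' e hx hx' => ?_, fun x₀ hx₀ => ?_⟩
  · obtain ⟨X', Y', j, i, f', _, _, _, _, hc, -, hr, hg⟩ := main x
    obtain ⟨a, rfl⟩ := hr x rfl
    rw [hc]
    exact hg.le a
  · obtain ⟨X', Y', j, i, f', _, _, _, _, hc, he, hr, hg⟩ := main x
    obtain ⟨a, rfl⟩ := hr x rfl
    rw [fibreLen_of_square j i f f' he a]
    exact hg.len a (by rw [hc] at hx; exact hx)
  · obtain ⟨X', Y', j, i, f', _, _, _, _, hc, -, hr, hg⟩ := main x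
    obtain ⟨a, rfl⟩ := hr x rfl
    obtain ⟨b, rfl⟩ := hr x' e.symm
    rw [hc] at hx hx' e
    rw [hc] at e
    exact congrArg j (hg.uniq a b (i.isEmbedding.injective e) hx hx')
  · obtain ⟨X', Y', j, i, f', _, _, _, _, hc, -, hr, hg⟩ := main x₀
    obtain ⟨a, rfl⟩ := hr x₀ rfl
    obtain ⟨ι, inst, ξ, g, hξ, hs⟩ := hg.kill a (by rw [hc] at hx₀; exact hx₀)
    choose φ hφ using fun k => (CycLib.residueFieldMap_bijective j (ξ k)).2 (g k)
    refine ⟨ι, inst, fun k => j (ξ k), φ, fun k => ⟨?_, (hξ k).2.1, fun h0 => (hξ k).2.2 ?_⟩, fun x hx => ?_⟩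
    · rw [hc, hc, (hξ k).1]
    · rw [← hφ k, h0, map_zero]
    · obtain ⟨b, rfl⟩ := hr x hx
      rw [hc, hc] at hx
      have hb := hs b (i.isEmbedding.injective hx)
      have e1 : ∀ k, Cyc.divFun δX (j (ξ k)) (φ k) (j b) = Cyc.divFun (fun x => δX (j x)) (ξ k) (g k) b := fun k => by
        rw [← hφ k, CycLib.divFun_preimmersion j (δX := δX) 0 (fun z => (add_zero _).symm)]
      simp only [e1]
      exact ⟨fun e' => hb.1 (j.isEmbedding.injective e'), fun e' => hb.2 fun e'' => e' (congrArg j e'')⟩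

end Groth.Agent.AffBundleCyc
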