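import Groth.Agent.AffBundleCyc.Line
import Groth.Agent.AffBundleCyc.Local
import Groth.Agent.FibDim.Minimal
import Mathlib.Algebra.MvPolynomial.Equiv
import Groth.Agent.H23.FlatClass
import Groth.Agent.H23.SetupLFT

/-!
# Fibrewise killing on affine spaces
-/

set_option autoImplicit false
set_option linter.style.haveILetI false
set_option backward.isDefEq.respectTransparency false
set_option backward.isDefEq.respectTransparency.types false

universe u

open AlgebraicGeometry CategoryTheory TopologicalSpace Opposite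

namespace Groth.Agent.AffBundleCyc

open H23.FiniteFibreSum H23.FlatShift

variable {X W Y : Scheme.{u}}

theorem compat_rd (h : W ⟶ Y) [LocallyOfFiniteType h] (δY : Y → ℤ) :
    Cyc.DeltaCompat h (fun w => δY (h w) + (FibDim.rd h w : ℕ)) δY := fun w =>
  ⟨FibDim.rd h w, (FibDim.rd_eq_rdeg h w).symm, rfl⟩

theorem compat_cancel (g : X ⟶ W) (h : W ⟶ Y) [LocallyOfFiniteType g] [LocallyOfFiniteType h]
    {δX : X → ℤ} {δY : Y → ℤ} (hc : Cyc.DeltaCompat (g ≫ h) δX δY) :
    Cyc.DeltaCompat g δX (fun w => δY (h w) + (FibDim.rd h w : ℕ)) := fun x => by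
  obtain ⟨n, hn, e⟩ := hc x
  refine ⟨FibDim.rd g x, (FibDim.rd_eq_rdeg g x).symm, ?_⟩
  have h1 : VarDim.rdeg (g ≫ h) x = n := hn
  rw [VarDim.rdeg_comp, ← FibDim.rd_eq_rdeg, ← FibDim.rd_eq_rdeg, ← Nat.cast_add, Nat.cast_inj] at h1
  rw [e, ← h1, Scheme.Hom.comp_apply]
  push_cast
  ring

theorem compat_iso (j : X ⟶ W) [IsPreimmersion j] (f : W ⟶ Y) {δ : W → ℤ} {δY : Y → ℤ}
    (hc : Cyc.DeltaCompat f δ δY) : Cyc.DeltaCompat (j ≫ f) (fun x => δ (j x)) δY := fun x => by
  obtain ⟨n, hn, e⟩ := hc (j x)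
  refine ⟨n, ?_, e⟩
  show VarDim.rdeg (j ≫ f) x = n
  rw [VarDim.rdeg_comp, VarDim.rdeg_preimmersion j, add_zero]
  exact hn

/-- the structure map of affine space over an affine base -/
noncomputable def mvProj (S : Type u) [CommRing S] (r : ℕ) :
    Spec (CommRingCat.of (MvPolynomial (Fin r) S)) ⟶ Spec (CommRingCat.of S) :=
  Spec.map (CommRingCat.ofHom (MvPolynomial.C : S →+* MvPolynomial (Fin r) S))

instance flat_mvProj (S : Type u) [CommRing S] (r : ℕ) : Flat (mvProj S r) := by
  rw [mvProj, HasRingHomProperty.Spec_iff (P := @Flat)]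
  exact RingHom.flat_algebraMap_iff.2 (inferInstance : Module.Flat S (MvPolynomial (Fin r) S))

instance lft_mvProj (S : Type u) [CommRing S] (r : ℕ) : LocallyOfFiniteType (mvProj S r) := by
  rw [mvProj, HasRingHomProperty.Spec_iff (P := @LocallyOfFiniteType)]
  exact (RingHom.finiteType_algebraMap (A := S) (B := MvPolynomial (Fin r) S)).2 inferInstance

instance flat_lineProj (S : Type u) [CommRing S] : Flat (lineProj S) := by
  rw [lineProj, HasRingHomProperty.Spec_iff (P := @Flat)]
  exact RingHom.flat_algebraMap_iff.2 (inferInstance : Module.Flat S (Polynomial S))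

instance lft_lineProj (S : Type u) [CommRing S] : LocallyOfFiniteType (lineProj S) := by
  rw [lineProj, HasRingHomProperty.Spec_iff (P := @LocallyOfFiniteType)]
  exact (RingHom.finiteType_algebraMap (A := S) (B := Polynomial S)).2 inferInstance

theorem good_mv : ∀ (r : ℕ) (S : Type u) [CommRing S] [IsNoetherianRing S]
    (δY : Spec (CommRingCat.of S) → ℤ) (δX : Spec (CommRingCat.of (MvPolynomial (Fin r) S)) → ℤ),
    Cyc.IsSetup (Spec (CommRingCat.of S)) δY → Cyc.DeltaCompat (mvProj S r) δX δY →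
      Good (mvProj S r) δX δY r := by
  intro r
  induction r with
  | zero =>
    intro S _ _ δY δX _ hc
    haveI : IsIso (mvProj S 0) := by
      haveI : IsIso (CommRingCat.ofHom (MvPolynomial.C : S →+* MvPolynomial (Fin 0) S)) :=
        (ConcreteCategory.isIso_iff_bijective _).2
          (MvPolynomial.isEmptyAlgEquiv S (Fin 0)).symm.bijective
      exact inferInstanceAs (IsIso (Spec.map _))
    refine Good.of_isIso _ δX δY fun x => ?_
    obtain ⟨n, hn, e⟩ := hc x
    have h1 : (n : Cardinal.{u}) = 0 := hn.symm.trans (VarDim.rdeg_preimmersion (mvProj S 0) x)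
    rw [e, Nat.cast_eq_zero.1 h1]
    simp
  | succ r ih =>
    intro S _ _ δY δX hY hc
    let A := MvPolynomial (Fin r) S
    let e : MvPolynomial (Fin (r + 1)) S ≃ₐ[S] Polynomial A := MvPolynomial.finSuccEquiv S r
    let j : Spec (CommRingCat.of (Polynomial A)) ⟶ Spec (CommRingCat.of (MvPolynomial (Fin (r + 1)) S)) :=
      Spec.map (CommRingCat.ofHom e.toAlgHom.toRingHom)
    haveI : IsIso (CommRingCat.ofHom e.toAlgHom.toRingHom) :=
      (ConcreteCategory.isIso_iff_bijective _).2 e.bijective
    haveI : IsIso j := inferInstanceAs (IsIso (Spec.map _))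
    have hcomp : j ≫ mvProj S (r + 1) = lineProj A ≫ mvProj S r := by
      rw [mvProj, mvProj, lineProj, ← Spec.map_comp, ← Spec.map_comp, ← CommRingCat.ofHom_comp, ← CommRingCat.ofHom_comp]
      congr 2
      exact RingHom.ext fun s => e.commutes s
    have hcj : Cyc.DeltaCompat (lineProj A ≫ mvProj S r) (fun x => δX (j x)) δY := hcomp ▸ compat_iso j _ hc
    let δW : Spec (CommRingCat.of A) → ℤ := fun w => δY (mvProj S r w) + (FibDim.rd (mvProj S r) w : ℕ)
    have hW : Cyc.DeltaCompat (mvProj S r) δW δY := compat_rd _ δY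
    have hg : Cyc.DeltaCompat (lineProj A) (fun x => δX (j x)) δW := compat_cancel _ _ hcj
    have hWs : Cyc.IsSetup (Spec (CommRingCat.of A)) δW := H23.SetupLFT.isSetup (mvProj S r) hY hW
    have hXs : Cyc.IsSetup (Spec (CommRingCat.of (Polynomial A))) (fun x => δX (j x)) :=
      H23.SetupLFT.isSetup (lineProj A) hWs hg
    haveI := hWs.1
    haveI := hXs.1
    have hgood : Good (lineProj A ≫ mvProj S r) (fun x => δX (j x)) δY ((r : ℤ) + 1) :=
      Good.comp hXs.2.2 hWs.2.2 (good_line hXs.2.2 hg) (ih S δY δW hY hW) fun x => by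
        obtain ⟨n, -, e'⟩ := hg x
        show δW (lineProj A x) ≤ δX (j x)
        have : δX (j x) = δW (lineProj A x) + n := e'
        omega
    haveI : IsLocallyNoetherian (Spec (CommRingCat.of (MvPolynomial (Fin (r + 1)) S))) := inferInstance
    refine Good.of_cover _ fun z => ⟨_, _, j, 𝟙 _, lineProj A ≫ mvProj S r, inferInstance, inferInstance,
      inferInstance, hXs.1, by rw [Category.comp_id]; exact hcomp, ⟨z, rfl⟩, fun x _ => ?_, ?_⟩
    · exact ⟨(inv j) x, by rw [← Scheme.Hom.comp_apply, IsIso.inv_hom_id]; rfl⟩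
    · convert hgood using 1
      all_goals first | rfl | (push_cast; ring) | simp

end Groth.Agent.AffBundleCyc
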